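import Groth.Agent.CurvOpen.Props
import Groth.Agent.CurvLocusLib.GeomFib
import Groth.Agent.H23.P1Conn
import Groth.Agent.AlgSpPts.Sep
import Groth.Agent.AlgSpPts.Misc
import Groth.Agent.ExtShX.PnSmooth
import Groth.Agent.DescLib.Reduced
import Groth.Agent.S10829
import Groth.Agent.H23.TopDim

/-!
# The projective line as a family of curves over a geometric point
-/

set_option autoImplicit false
set_option linter.style.haveILetI false
set_option backward.isDefEq.respectTransparency false
set_option backward.isDefEq.respectTransparency.types false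
set_option maxHeartbeats 1000000

universe u

open CategoryTheory CategoryTheory.Limits AlgebraicGeometry AlgSp

noncomputable section

namespace Groth.Agent.CurvOpen

open Groth.Agent.AlgSpLib

variable {S : Scheme.{u}}

/-- A proper smooth morphism of schemes of relative dimension one gives a family of curves. -/
theorem isCurveFam_toSpFam (A : CurvSt.PtFamObj S 0) [IsProper A.f] [SmoothOfRelativeDimension 1 A.f] :
    CurvSt.IsCurveFam ((CurvSt.toSpFam S 0).obj A) := by
  haveI : Smooth A.f := SmoothOfRelativeDimension.smooth 1 A.f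
  haveI : Smooth A.fOver.left := ‹Smooth A.f›
  haveI : IsProper A.fOver.left := ‹IsProper A.f›
  have hr : ∀ {P : MorphismProperty Scheme.{u}} [P.IsStableUnderBaseChange], P A.fOver.left →
      RepWith P ((yon S).map A.fOver) := fun h => (repWith_yon_map_iff _ _).2 h
  refine ⟨IsAlgSpace.yon_obj _, locP_of_repWith (hr (P := @Flat) inferInstance),
    ⟨?_, ⟨locP_of_repWith (hr (P := @LocallyOfFiniteType) inferInstance),
      AlgSpPts.isQuasiCompactMor_of_repWith (hr (P := @QuasiCompact) inferInstance)⟩,
      AlgSpPts.univSp_of_repWith (fun _ _ _ h => AlgSpPts.isClosedMap_map h)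
        (hr (P := @UniversallyClosed) inferInstance)⟩,
    ⟨locP_of_repWith (hr (P := @LocallyOfFinitePresentation) inferInstance),
      AlgSpPts.isQuasiCompactMor_of_repWith (hr (P := @QuasiCompact) inferInstance), ?_⟩, fun x => ?_⟩
  · exact repWith_diagonal (hr (P := @IsSeparated) inferInstance) fun g (_ : IsSeparated g) =>
      (inferInstance : IsClosedImmersion (pullback.diagonal g))
  · exact repWith_diagonal (hr (P := @IsSeparated) inferInstance) fun g (_ : IsSeparated g) =>
      (inferInstance : QuasiCompact (pullback.diagonal g))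
  · refine ⟨A.totOver, A.base, 𝟙 _, 𝟙 _, A.fOver, Points.toScheme _ x, ?_, ?_, ?_, ?_, ?_⟩
    · rw [← (yon S).map_id]; exact (repWith_yon_map_iff _ _).2 (inferInstanceAs (Etale (𝟙 _)))
    · rw [← (yon S).map_id]; exact (repWith_yon_map_iff _ _).2 (inferInstanceAs (Etale (𝟙 _)))
    · exact (Category.id_comp _).trans (Category.comp_id _).symm
    · exact Points.ofScheme_toScheme _ x
    · exact le_of_eq (S2768.result 1 A.f _)

variable (Ω : Type u) [Field Ω] (t : Spec (CommRingCat.of Ω) ⟶ S)

theorem smoothOne_toBase :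
    SmoothOfRelativeDimension 1 (CohB1.ProjSpaceOver.toBase 1 (Spec (CommRingCat.of Ω))) := by
  let 𝒰 : (CohB1.ProjSpaceOver 1 (Spec (CommRingCat.of Ω))).OpenCover :=
    Scheme.Cover.mkOfCovers (Fin (1 + 1)) _ (H23.P1Charts.chart Ω)
      (fun x => by obtain ⟨i, y, hy⟩ := H23.P1Charts.exists_chart Ω x; exact ⟨i, y, hy⟩)
      (fun _ => inferInstance)
  refine IsZariskiLocalAtSource.of_openCover (P := @SmoothOfRelativeDimension 1) 𝒰 fun i => ?_
  show SmoothOfRelativeDimension 1 (H23.P1Charts.chart Ω i ≫ _)
  rw [H23.P1Charts.chart_toBase]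
  refine (HasRingHomProperty.Spec_iff (P := @SmoothOfRelativeDimension 1)).mpr
    (RingHom.locally_of RingHom.isStandardSmoothOfRelativeDimension_respectsIso _ ?_)
  show RingHom.IsStandardSmoothOfRelativeDimension 1 (algebraMap Ω (Polynomial Ω))
  rw [RingHom.isStandardSmoothOfRelativeDimension_algebraMap]
  haveI := ExtShX.DetPn.isStandardSmoothOfRelativeDimension_mvPolynomial' Ω PUnit.{u + 1} 1 (by simp)
  exact Algebra.IsStandardSmoothOfRelativeDimension.of_algEquiv _ (MvPolynomial.pUnitAlgEquiv.{u, u} Ω)

/-- The projective line over a geometric point, as a family of schemes. -/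
def lineFam : CurvSt.PtFamObj S 0 :=
  ⟨Over.mk t, CohB1.ProjSpaceOver 1 (Spec (CommRingCat.of Ω)), CohB1.ProjSpaceOver.toBase 1 _, Fin.elim0,
    fun i => i.elim0⟩

instance : IsProper (lineFam Ω t).f := inferInstanceAs (IsProper (CohB1.ProjSpaceOver.toBase 1 _))
instance : SmoothOfRelativeDimension 1 (lineFam Ω t).f := smoothOne_toBase Ω
instance : Smooth (lineFam Ω t).f := SmoothOfRelativeDimension.smooth 1 _

/-- The projective line as an object of the stack of curves. -/
def line : (CurvSt.Curves S 0).obj := ⟨_, isCurveFam_toSpFam (lineFam Ω t)⟩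

/-- The projective line gives an object over the geometric point in every full subcategory containing it. -/
theorem nonempty_fiber {Q : (CurvSt.Curves S 0).obj → Prop} (h : Q (line Ω t)) :
    Nonempty ((AlgSt.fullSub (CurvSt.Curves S 0) Q).p.Fiber (Over.mk t)) :=
  ⟨Functor.Fiber.mk (a := ⟨line Ω t, h⟩) rfl⟩

/-- Etale local conditions on the line are conditions on charts of a smooth morphism of relative dimension one. -/
theorem locP_line {P : MorphismProperty Scheme.{u}}
    (hP : ∀ {U V : Scheme.{u}} (h : U ⟶ V), SmoothOfRelativeDimension 1 h → P h) :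
    LocP P (line Ω t).obj.f := by
  intro U V a b k ha hb w
  obtain ⟨a, rfl⟩ := (yon S).map_surjective a
  obtain ⟨b, rfl⟩ := (yon S).map_surjective b
  haveI : Etale a.left := (repWith_yon_map_iff _ _).1 ha
  haveI : Etale b.left := (repWith_yon_map_iff _ _).1 hb
  have w' : a ≫ (lineFam Ω t).fOver = k ≫ b :=
    (yon S).map_injective (by rw [Functor.map_comp, Functor.map_comp]; exact w)
  refine hP _ ((forall_smoothOne_iff _).1 fun x => ?_)
  have h1 : Smooth (a.left ≫ (lineFam Ω t).f) := inferInstance
  have e : a.left ≫ (lineFam Ω t).f = k.left ≫ b.left := congrArg CommaMorphism.left w'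
  haveI : Smooth k.left := IsEtLocal.cancel_right (P := @Smooth) k.left b.left (e ▸ h1)
  refine ⟨(forall_near (P := @Smooth) _).2 inferInstance x, ?_⟩
  rw [← AlgSpDec.fibreDimAt_comp_etale k.left b.left, ← e, AlgSpDec.fibreDimAt_etale_comp]
  exact S2768.result 1 _ _

theorem hasAtMor_line (x : Points (line Ω t).obj.X) :
    HasAtMor (fun _ _ h v => FlatMor.fibreDimAt h v = ((1 : ℕ) : WithBot ℕ∞)) (line Ω t).obj.f x := by
  refine ⟨(lineFam Ω t).totOver, Over.mk t, 𝟙 _, 𝟙 _, (lineFam Ω t).fOver, Points.toScheme _ x, ?_, ?_, ?_, ?_, ?_⟩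
  · rw [← (yon S).map_id]; exact (repWith_yon_map_iff _ _).2 (inferInstanceAs (Etale (𝟙 _)))
  · rw [← (yon S).map_id]; exact (repWith_yon_map_iff _ _).2 (inferInstanceAs (Etale (𝟙 _)))
  · exact (Category.id_comp _).trans (Category.comp_id _).symm
  · exact Points.ofScheme_toScheme _ x
  · exact S2768.result 1 (lineFam Ω t).f _

/-- The geometric fibres of the line. -/
theorem geomFib_line (P : ∀ (K : Type u) [Field K] [IsAlgClosed K] (X' : Scheme.{u}),
      (X' ⟶ Spec (CommRingCat.of K)) → Prop)
    (h : ∀ (K : Type u) [Field K] [IsAlgClosed K] (X' : Scheme.{u}) (q : X' ⟶ Spec (CommRingCat.of K)),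
      IsProper q → SmoothOfRelativeDimension 1 q → IrreducibleSpace ↥X' → IsReduced X' →
        topologicalKrullDim ↥X' = 1 → P K X' q) :
    CurvSt.GeomFib (fun K _ _ X' q _ => P K X' q) (line Ω t).obj := by
  refine (CurvLocusLib.geomFib_iff (Over.mk t) (lineFam Ω t).f P).2 fun K _ _ τ X' q g hg => ?_
  have hq := MorphismProperty.of_isPullback (P := @IsProper) hg (inferInstanceAs (IsProper (lineFam Ω t).f))
  haveI := smoothOfRelativeDimension_isStableUnderBaseChange.{u} (n := 1)
  have hs : SmoothOfRelativeDimension 1 q :=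
    MorphismProperty.of_isPullback (P := @SmoothOfRelativeDimension 1) hg (smoothOne_toBase Ω)
  haveI : Smooth q := SmoothOfRelativeDimension.smooth 1 q
  let e : X' ≅ CohB1.ProjSpaceOver 1 (Spec (CommRingCat.of K)) :=
    hg.isoIsPullback _ _ (H23.P1Conn.isPullback_toP1 τ)
  haveI : IsIntegral (CohB1.ProjSpaceOver 1 (Spec (CommRingCat.of K))) := inferInstance
  haveI : IrreducibleSpace ↥X' := (Scheme.homeoOfIso e).symm.surjective.irreducibleSpace (Scheme.homeoOfIso e).symm.continuous
  haveI : IsReduced X' := DescLib.isReduced_of_smooth_of_isReduced q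
  refine h K X' q hq hs ‹_› ‹_› ?_
  haveI := hs
  refine le_antisymm (by exact_mod_cast ExtShX.DetPn.dim_le_of_smooth K q 1) ?_
  let x : ↥X' := Classical.arbitrary _
  have hd : FlatMor.fibreDimAt q x = ((1 : ℕ) : WithBot ℕ∞) := S2768.result 1 q x
  calc (1 : WithBot ℕ∞) = FlatMor.localDim ↥(q.fiber (q x)) (q.asFiber x) := by
        rw [← Nat.cast_one, ← hd]; rfl
    _ ≤ topologicalKrullDim ↥(q.fiber (q x)) := H23.TopDim.localDim_le_dim _
    _ ≤ topologicalKrullDim ↥X' := (q.fiberι (q x)).isEmbedding.isInducing.topologicalKrullDim_le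

end Groth.Agent.CurvOpen
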