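import Groth.Agent.Triage.CMBC
import Groth.Agent.GorFib.Basic
import Groth.Agent.GorFib.Etale

/-!
# Cohen-Macaulay and Gorenstein points of flat morphisms locally of finite type under arbitrary base change
-/

set_option autoImplicit false
set_option linter.style.haveILetI false
set_option backward.isDefEq.respectTransparency false
set_option maxHeartbeats 1000000

universe u

open CategoryTheory CategoryTheory.Limits AlgebraicGeometry IsLocalRing

namespace Groth.Agent.CurvOpen

variable {X S X' T : Scheme.{u}} {f : X ⟶ S} {g : T ⟶ S} {f' : X' ⟶ T} {g' : X' ⟶ X}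

/-- The residue field of a point of a scheme locally of finite type over a field is essentially of finite type. -/
theorem essFiniteType_point {k : Type u} [Field k] {F : Scheme.{u}} (q : F ⟶ Spec (CommRingCat.of k))
    [LocallyOfFiniteType q] (w : F) (φ : CommRingCat.of k ⟶ F.residueField w)
    (hφ : Spec.map φ = F.fromSpecResidueField w ≫ q) : φ.hom.EssFiniteType := by
  let pt := q w
  obtain ⟨ψ, hψ⟩ := Spec.map_surjective ((Spec (CommRingCat.of k)).fromSpecResidueField pt)
  haveI : Subsingleton ↥(Spec (CommRingCat.of k)) := inferInstanceAs (Subsingleton (PrimeSpectrum k))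
  have hc : IsClosed ({pt} : Set ↥(Spec (CommRingCat.of k))) := by
    rw [show ({pt} : Set ↥(Spec (CommRingCat.of k))) = Set.univ from
      Set.eq_univ_of_forall fun z => Subsingleton.elim z pt]
    exact isClosed_univ
  have hcl : IsClosedImmersion (Spec.map ψ) := hψ ▸ isClosed_singleton_iff_isClosedImmersion.mp hc
  haveI := hcl
  have hsurj : Function.Surjective ψ.hom := fun y => by
    obtain ⟨a, ha⟩ := (IsClosedImmersion.isAffine_surjective_of_isAffine (Spec.map ψ)).2
      ((Scheme.ΓSpecIso _).inv y)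
    refine ⟨(Scheme.ΓSpecIso _).hom a, ?_⟩
    have h1 := congrArg (fun m => m a) (Scheme.ΓSpecIso_naturality ψ)
    simp only [CommRingCat.comp_apply] at h1
    rw [← h1, ha, Iso.inv_hom_id_apply]
  have he : φ = ψ ≫ q.residueFieldMap w := Spec.map_injective (by
    rw [Spec.map_comp, hψ, hφ, Scheme.Hom.SpecMap_residueFieldMap_fromSpecResidueField])
  rw [he]
  exact RingHom.EssFiniteType.comp (RingHom.FiniteType.essFiniteType (RingHom.FiniteType.of_surjective _ hsurj))
    (Triage.CMBC.essFiniteType_residueFieldMap q w)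

/-- The local rings of the fibres along an arbitrary base change of a morphism locally of finite type: Cohen-Macaulay. -/
theorem isCM_fibre_iff (hc : IsPullback g' f' f g) [LocallyOfFiniteType f] [LocallyOfFiniteType f'] (x' : X') :
    LocCoh.IsCohenMacaulayLocalRing
        (↑(X'.presheaf.stalk x') ⧸ (maximalIdeal (T.presheaf.stalk (f' x'))).map (FibFlat.sm f' x' (f' x') rfl)) ↔
      LocCoh.IsCohenMacaulayLocalRing
        (↑(X.presheaf.stalk (g' x')) ⧸
          (maximalIdeal (S.presheaf.stalk (f (g' x')))).map (FibFlat.sm f (g' x') (f (g' x')) rfl)) := by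
  have hy : f (g' x') = g (f' x') := by rw [← Scheme.Hom.comp_apply, hc.w, Scheme.Hom.comp_apply]
  have hI : LocCoh.IsCohenMacaulayLocalRing
        (↑(X.presheaf.stalk (g' x')) ⧸
          (maximalIdeal (S.presheaf.stalk (f (g' x')))).map (FibFlat.sm f (g' x') (f (g' x')) rfl)) ↔
      LocCoh.IsCohenMacaulayLocalRing
        (↑(X.presheaf.stalk (g' x')) ⧸
          (maximalIdeal (S.presheaf.stalk (g (f' x')))).map (FibFlat.sm f (g' x') (g (f' x')) hy)) :=
    Triage.CMMor.isCM_congr (Ideal.quotEquivOfEq (FibFlat.map_max_sm f (g' x') _ hy))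
  rw [hI]
  obtain ⟨e, he, hι⟩ := ConsPropLib.exists_fibre_pullback hc (f' x')
  let z' := f'.asFiber x'
  have hz' : f'.fiberι (f' x') z' = x' := f'.fiberι_asFiber x'
  have hz : f.fiberι (g (f' x')) (e z') = g' x' := by
    rw [← Scheme.Hom.comp_apply, hι, Scheme.Hom.comp_apply, hz']
  obtain ⟨E'⟩ := Triage.CMMor.exists_equiv_fibre_stalk_aux f' x' (f' x') rfl z' hz'
  obtain ⟨E⟩ := Triage.CMMor.exists_equiv_fibre_stalk_aux f (g' x') (g (f' x')) hy (e z') hz
  haveI : IsLocallyNoetherian (f'.fiber (f' x')) :=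
    LocallyOfFiniteType.isLocallyNoetherian (f'.fiberToSpecResidueField (f' x'))
  haveI : IsLocallyNoetherian (f.fiber (g (f' x'))) :=
    LocallyOfFiniteType.isLocallyNoetherian (f.fiberToSpecResidueField (g (f' x')))
  rw [Triage.CMMor.isCM_congr E', Triage.CMMor.isCM_congr E]
  haveI : Flat e := by
    have h1 : Flat (Spec.map (g.residueFieldMap (f' x'))) := by
      rw [Flat.SpecMap_iff]
      let := (g.residueFieldMap (f' x')).hom.toAlgebra
      exact RingHom.flat_algebraMap_iff.2 inferInstance
    exact MorphismProperty.of_isPullback (P := (@Flat : MorphismProperty Scheme.{u})) he.flip h1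
  letI : Algebra ((f.fiber (g (f' x'))).presheaf.stalk (e z')) ((f'.fiber (f' x')).presheaf.stalk z') :=
    (e.stalkMap z').hom.toAlgebra
  haveI : IsLocalHom (algebraMap ((f.fiber (g (f' x'))).presheaf.stalk (e z')) ((f'.fiber (f' x')).presheaf.stalk z')) :=
    inferInstanceAs (IsLocalHom (e.stalkMap z').hom)
  haveI : Module.Flat ((f.fiber (g (f' x'))).presheaf.stalk (e z')) ((f'.fiber (f' x')).presheaf.stalk z') :=
    Flat.stalkMap e z'
  rw [Triage.CMMor.isCM_iff ((f.fiber (g (f' x'))).presheaf.stalk (e z')) ((f'.fiber (f' x')).presheaf.stalk z')]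
  refine ⟨And.left, fun h => ⟨h, ?_⟩⟩
  refine (Triage.CMMor.isCM_congr (Triage.CMMor.exists_equiv_fibre_stalk e z').some).2 ?_
  let F := f.fiber (g (f' x'))
  let k := S.residueField (g (f' x'))
  obtain ⟨φ, hφ⟩ := Spec.map_surjective (F.fromSpecResidueField (e z') ≫ f.fiberToSpecResidueField (g (f' x')))
  have hess := essFiniteType_point (k := ↑k) (f.fiberToSpecResidueField (g (f' x'))) (e z') φ hφ
  letI : Field k := inferInstance
  letI : Algebra k (F.residueField (e z')) := φ.hom.toAlgebra
  letI : Algebra k (T.residueField (f' x')) := (g.residueFieldMap (f' x')).hom.toAlgebra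
  haveI : Algebra.EssFiniteType k (F.residueField (e z')) := hess
  refine Triage.CMBC.isCM_stalk_of_field_pullback (k := k) (K := T.residueField (f' x')) (L := F.residueField (e z'))
    (a := pullback.fst e (F.fromSpecResidueField (e z')) ≫ f'.fiberToSpecResidueField (f' x'))
    (b := pullback.snd e (F.fromSpecResidueField (e z'))) ?_ _
  show IsPullback _ _ (Spec.map (g.residueFieldMap (f' x'))) (Spec.map φ)
  rw [hφ]
  exact ((IsPullback.of_hasPullback e (F.fromSpecResidueField (e z'))).flip.paste_vert he).flip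

theorem isCMAt_baseChange_iff (hc : IsPullback g' f' f g) [Flat f] [Flat f'] [LocallyOfFiniteType f]
    [LocallyOfFiniteType f'] (x' : X') : MoreMor.IsCMAt f' x' ↔ MoreMor.IsCMAt f (g' x') := by
  rw [Triage.CMMor.isCMAt_iff_sm f' x' (f' x') rfl, Triage.CMMor.isCMAt_iff_sm f (g' x') (f (g' x')) rfl]
  exact and_congr (iff_of_true ((FibFlat.sm_flat_iff _ _ _ rfl).2 (Flat.stalkMap f' x'))
    ((FibFlat.sm_flat_iff _ _ _ rfl).2 (Flat.stalkMap f _))) (isCM_fibre_iff hc x')

/-- The local rings of the fibres along an arbitrary base change of a morphism locally of finite type: Gorenstein. -/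
theorem gor_fibre_iff (hc : IsPullback g' f' f g) [LocallyOfFiniteType f] [LocallyOfFiniteType f'] (x' : X') :
    LocCoh.IsGorensteinLocalRing
        (↑(X'.presheaf.stalk x') ⧸ (maximalIdeal (T.presheaf.stalk (f' x'))).map (FibFlat.sm f' x' (f' x') rfl)) ↔
      LocCoh.IsGorensteinLocalRing
        (↑(X.presheaf.stalk (g' x')) ⧸
          (maximalIdeal (S.presheaf.stalk (f (g' x')))).map (FibFlat.sm f (g' x') (f (g' x')) rfl)) := by
  have hy : f (g' x') = g (f' x') := by rw [← Scheme.Hom.comp_apply, hc.w, Scheme.Hom.comp_apply]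
  have hI : LocCoh.IsGorensteinLocalRing
        (↑(X.presheaf.stalk (g' x')) ⧸
          (maximalIdeal (S.presheaf.stalk (f (g' x')))).map (FibFlat.sm f (g' x') (f (g' x')) rfl)) ↔
      LocCoh.IsGorensteinLocalRing
        (↑(X.presheaf.stalk (g' x')) ⧸
          (maximalIdeal (S.presheaf.stalk (g (f' x')))).map (FibFlat.sm f (g' x') (g (f' x')) hy)) :=
    GorFib.gor_congr (Ideal.quotEquivOfEq (FibFlat.map_max_sm f (g' x') _ hy))
  rw [hI]
  obtain ⟨e, he, hι⟩ := ConsPropLib.exists_fibre_pullback hc (f' x')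
  let z' := f'.asFiber x'
  have hz' : f'.fiberι (f' x') z' = x' := f'.fiberι_asFiber x'
  have hz : f.fiberι (g (f' x')) (e z') = g' x' := by
    rw [← Scheme.Hom.comp_apply, hι, Scheme.Hom.comp_apply, hz']
  obtain ⟨E'⟩ := Triage.CMMor.exists_equiv_fibre_stalk_aux f' x' (f' x') rfl z' hz'
  obtain ⟨E⟩ := Triage.CMMor.exists_equiv_fibre_stalk_aux f (g' x') (g (f' x')) hy (e z') hz
  haveI : IsLocallyNoetherian (f'.fiber (f' x')) :=
    LocallyOfFiniteType.isLocallyNoetherian (f'.fiberToSpecResidueField (f' x'))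
  haveI : IsLocallyNoetherian (f.fiber (g (f' x'))) :=
    LocallyOfFiniteType.isLocallyNoetherian (f.fiberToSpecResidueField (g (f' x')))
  rw [GorFib.gor_congr E', GorFib.gor_congr E]
  haveI : Flat e := by
    have h1 : Flat (Spec.map (g.residueFieldMap (f' x'))) := by
      rw [Flat.SpecMap_iff]
      let := (g.residueFieldMap (f' x')).hom.toAlgebra
      exact RingHom.flat_algebraMap_iff.2 inferInstance
    exact MorphismProperty.of_isPullback (P := (@Flat : MorphismProperty Scheme.{u})) he.flip h1
  letI : Algebra ((f.fiber (g (f' x'))).presheaf.stalk (e z')) ((f'.fiber (f' x')).presheaf.stalk z') :=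
    (e.stalkMap z').hom.toAlgebra
  haveI : IsLocalHom (algebraMap ((f.fiber (g (f' x'))).presheaf.stalk (e z')) ((f'.fiber (f' x')).presheaf.stalk z')) :=
    inferInstanceAs (IsLocalHom (e.stalkMap z').hom)
  haveI : Module.Flat ((f.fiber (g (f' x'))).presheaf.stalk (e z')) ((f'.fiber (f' x')).presheaf.stalk z') :=
    Flat.stalkMap e z'
  rw [GorFib.gor_iff ((f.fiber (g (f' x'))).presheaf.stalk (e z')) ((f'.fiber (f' x')).presheaf.stalk z')]
  refine ⟨And.left, fun h => ⟨h, ?_⟩⟩
  refine (GorFib.gor_congr (Triage.CMMor.exists_equiv_fibre_stalk e z').some).2 ?_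
  let F := f.fiber (g (f' x'))
  let k := S.residueField (g (f' x'))
  obtain ⟨φ, hφ⟩ := Spec.map_surjective (F.fromSpecResidueField (e z') ≫ f.fiberToSpecResidueField (g (f' x')))
  have hess := essFiniteType_point (k := ↑k) (f.fiberToSpecResidueField (g (f' x'))) (e z') φ hφ
  letI : Field k := inferInstance
  letI : Algebra k (F.residueField (e z')) := φ.hom.toAlgebra
  letI : Algebra k (T.residueField (f' x')) := (g.residueFieldMap (f' x')).hom.toAlgebra
  haveI : Algebra.EssFiniteType k (F.residueField (e z')) := hess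
  refine GorFib.gor_stalk_of_field_pullback (k := k) (K := T.residueField (f' x')) (L := F.residueField (e z'))
    (a := pullback.fst e (F.fromSpecResidueField (e z')) ≫ f'.fiberToSpecResidueField (f' x'))
    (b := pullback.snd e (F.fromSpecResidueField (e z'))) ?_ _
  show IsPullback _ _ (Spec.map (g.residueFieldMap (f' x'))) (Spec.map φ)
  rw [hφ]
  exact ((IsPullback.of_hasPullback e (F.fromSpecResidueField (e z'))).flip.paste_vert he).flip

theorem gorAt_baseChange_iff (hc : IsPullback g' f' f g) [Flat f] [Flat f'] [LocallyOfFiniteType f]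
    [LocallyOfFiniteType f'] (x' : X') : Dual3.IsGorensteinAt f' x' ↔ Dual3.IsGorensteinAt f (g' x') := by
  rw [GorFib.gorAt_iff_sm f' x' (f' x') rfl, GorFib.gorAt_iff_sm f (g' x') (f (g' x')) rfl]
  exact and_congr (iff_of_true ((FibFlat.sm_flat_iff _ _ _ rfl).2 (Flat.stalkMap f' x'))
    ((FibFlat.sm_flat_iff _ _ _ rfl).2 (Flat.stalkMap f _))) (gor_fibre_iff hc x')

end Groth.Agent.CurvOpen
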