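import Groth.Agent.AlgStLib.FppfSite
import Groth.Agent.AlgStLib.Yoneda
import Groth.Agent.AlgStLib.OfSp
import Groth.Agent.AlgStLib.LocQ
import Groth.Agent.FibBase.FpMaps
import Groth.Prelude.Def_AlgSt3

/-!
# Open substacks cut out by open loci on the bases, for categories over `(Sch/S)` in any universes
-/

set_option autoImplicit false
set_option linter.style.haveILetI false
set_option linter.unusedSectionVars false
set_option backward.isDefEq.respectTransparency false
set_option backward.isDefEq.respectTransparency.types false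
set_option maxHeartbeats 1000000

universe v w v₂ w₂ u

open CategoryTheory CategoryTheory.Functor CategoryTheory.Limits AlgebraicGeometry Opposite AlgSp

noncomputable section

namespace Groth.Agent.CurvOpen

open Groth.Agent.FibBase Groth.Agent.AlgSpLib Groth.Agent.AlgStLib

variable {S : Scheme.{u}} {𝒳 : BasedCategory.{v, w} (Over S)} {Q : 𝒳.obj → Prop}

theorem isHomLift_full_iff {x y : (AlgSt.fullSub 𝒳 Q).obj} {a b : Over S} (f : a ⟶ b) (φ : x ⟶ y) :
    (AlgSt.fullSub 𝒳 Q).p.IsHomLift f φ ↔ 𝒳.p.IsHomLift f φ.hom :=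
  ⟨fun _ => IsHomLift.of_fac 𝒳.p f φ.hom (IsHomLift.domain_eq (AlgSt.fullSub 𝒳 Q).p f φ)
      (IsHomLift.codomain_eq (AlgSt.fullSub 𝒳 Q).p f φ) (IsHomLift.fac (AlgSt.fullSub 𝒳 Q).p f φ),
    fun _ => IsHomLift.of_fac (AlgSt.fullSub 𝒳 Q).p f φ (IsHomLift.domain_eq 𝒳.p f φ.hom)
      (IsHomLift.codomain_eq 𝒳.p f φ.hom) (IsHomLift.fac 𝒳.p f φ.hom)⟩

theorem isFibGrpd_full (h𝒳 : FibCat.IsFibGrpd 𝒳.p) (hQ : ∀ ⦃y x : 𝒳.obj⦄, (y ⟶ x) → Q x → Q y) :
    FibCat.IsFibGrpd (AlgSt.fullSub 𝒳 Q).p := by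
  refine ⟨fun {x V} f => ?_, fun {y x} φ => ?_⟩
  · obtain ⟨y, φ, hφ⟩ := h𝒳.exists_lift (x := x.obj) f
    exact ⟨⟨y, hQ φ x.property⟩, ObjectProperty.homMk φ, (isHomLift_full_iff _ _).2 hφ⟩
  · have := h𝒳.isStronglyCartesian φ.hom
    have : (AlgSt.fullSub 𝒳 Q).p.IsHomLift ((AlgSt.fullSub 𝒳 Q).p.map φ) φ :=
      (isHomLift_full_iff _ _).2 (show 𝒳.p.IsHomLift (𝒳.p.map φ.hom) φ.hom from inferInstance)
    refine { universal_property' := fun {a'} g φ' hφ' => ?_ }
    have hφ2 : 𝒳.p.IsHomLift (g ≫ 𝒳.p.map φ.hom) φ'.hom := (isHomLift_full_iff (g ≫ 𝒳.p.map φ.hom) φ').1 hφ'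
    obtain ⟨χ, ⟨hχ, e⟩, huniq⟩ := Functor.IsStronglyCartesian.universal_property 𝒳.p (𝒳.p.map φ.hom) φ.hom g
      (g ≫ 𝒳.p.map φ.hom) rfl φ'.hom
    refine ⟨ObjectProperty.homMk χ, ⟨(isHomLift_full_iff _ _).2 hχ, ObjectProperty.hom_ext _ e⟩, ?_⟩
    rintro χ' ⟨hχ', e'⟩
    exact ObjectProperty.hom_ext _ (huniq χ'.hom ⟨(isHomLift_full_iff g χ').1 hχ', congrArg (·.hom) e'⟩)

/-- A functor over the base with values in `Q`, as a functor to the full subcategory. -/
def liftFull {𝒜 : BasedCategory.{v₂, w₂} (Over S)} (G : 𝒜 ⥤ᵇ 𝒳) (h : ∀ a, Q (G.obj a)) :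
    𝒜 ⥤ᵇ AlgSt.fullSub 𝒳 Q where
  toFunctor := ObjectProperty.lift _ G.toFunctor h
  w := G.w

/-- Open loci on the bases cutting out `Q`. -/
structure OpenLoci (𝒳 : BasedCategory.{v, w} (Over S)) (Q : 𝒳.obj → Prop) where
  /-- the locus on the base of an object -/
  W : ∀ x : 𝒳.obj, Set ↥(𝒳.p.obj x).left
  isOpen : ∀ x, IsOpen (W x)
  pull : ∀ ⦃y x : 𝒳.obj⦄ (φ : y ⟶ x) (t : ↥(𝒳.p.obj y).left), t ∈ W y ↔ (𝒳.p.map φ).left t ∈ W x
  iff : ∀ x, Q x ↔ ∀ t, t ∈ W x

namespace OpenLoci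

variable (L : OpenLoci 𝒳 Q)

include L in
theorem of_hom ⦃y x : 𝒳.obj⦄ (φ : y ⟶ x) (h : Q x) : Q y :=
  (L.iff y).2 fun t => (L.pull φ t).2 ((L.iff x).1 h _)

/-- The open of a chart over which the objects satisfy `Q`. -/
def chartSet {U : Over S} (y : FibCat.overCat U ⥤ᵇ 𝒳) : U.left.Opens :=
  ⟨(eqToHom (y.w_obj (Over.mk (𝟙 U))).symm : U ⟶ _).left ⁻¹' L.W (y.obj (Over.mk (𝟙 U))),
    (L.isOpen _).preimage (Scheme.Hom.continuous _)⟩

theorem chart_iff {U : Over S} (y : FibCat.overCat U ⥤ᵇ 𝒳) (a : Over U) :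
    Q (y.obj a) ↔ ∀ t : ↥a.left.left, a.hom.left t ∈ L.chartSet y := by
  let φ : a ⟶ Over.mk (𝟙 U) := Over.homMk a.hom (Category.comp_id _)
  have h1 : 𝒳.p.map (y.map φ) = eqToHom (y.w_obj a) ≫ a.hom ≫ eqToHom (y.w_obj (Over.mk (𝟙 U))).symm :=
    Functor.congr_hom y.w φ
  rw [L.iff]
  constructor
  · intro h t
    have h2 := (L.pull (y.map φ) ((eqToHom (y.w_obj a).symm : a.left ⟶ _).left t)).1 (h _)
    rw [h1, ← Scheme.Hom.comp_apply, ← Over.comp_left, eqToHom_trans_assoc, eqToHom_refl, Category.id_comp,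
      Over.comp_left, Scheme.Hom.comp_apply] at h2
    exact h2
  · intro h t
    rw [L.pull (y.map φ) t, h1, Over.comp_left, Over.comp_left, Scheme.Hom.comp_apply, Scheme.Hom.comp_apply]
    exact h _

include L in
theorem isClosedUnderIso : ObjectProperty.IsClosedUnderIsomorphisms Q :=
  ⟨fun e h => L.of_hom e.inv h⟩

include L in
theorem isOpenImm (h𝒳 : FibCat.IsFibGrpd 𝒳.p) : AlgSt.IsOpenImm (AlgSt.subIncl 𝒳 Q) := fun U y => by
  let V := L.chartSet y
  let Vs : Over S := Over.mk (V.ι ≫ U.hom)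
  let j : Vs ⟶ U := Over.homMk V.ι rfl
  have hmem : ∀ c : Over Vs, Q (y.obj ((AlgSt.overMap j).obj c)) := fun c =>
    (L.chart_iff y _).2 fun w => (c.hom.left w).2
  let y' : FibCat.overCat Vs ⥤ᵇ AlgSt.fullSub 𝒳 Q := liftFull (BasedFunctor.comp (AlgSt.overMap j) y) hmem
  let e : FibCat.overCat Vs ⥤ᵇ FibCat.fp y (AlgSt.subIncl 𝒳 Q) :=
    FibCat.fpLift (AlgSt.overMap j) y' (Iso.refl (BasedFunctor.comp (AlgSt.overMap j) y))
  have he : FibCat.IsEquivOver e := by
    refine isEquivOver_of_exists_iso _ ⟨fun {a b} t => ?_⟩ ⟨fun {a b} t t' h => ?_⟩ fun η => ?_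
    · have hw : t.hom.fst.left ≫ b.hom ≫ j = a.hom ≫ j := Over.w t.hom.fst
      have hm : t.hom.fst.left ≫ b.hom = a.hom := by
        refine Over.OverMorphism.ext ((cancel_mono V.ι).1 ?_)
        have := congrArg CommaMorphism.left hw
        simp only [Over.comp_left] at this ⊢
        exact (Category.assoc _ _ _).trans this
      let φ : a ⟶ b := Over.homMk t.hom.fst.left hm
      have hfst : (AlgSt.overMap j).map φ = t.hom.fst := Over.OverMorphism.ext rfl
      refine ⟨φ, ?_⟩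
      refine ObjectProperty.hom_ext _ (CategoricalPullback.hom_ext hfst (ObjectProperty.hom_ext _ ?_))
      have h := t.hom.w
      have h' : y.map t.hom.fst ≫ 𝟙 _ = 𝟙 _ ≫ t.hom.snd.hom := h
      show y.map ((AlgSt.overMap j).map φ) = t.hom.snd.hom
      rw [hfst]
      exact ((Category.comp_id _).symm.trans h').trans (Category.id_comp _)
    · have := congrArg (fun k => k.hom.fst.left) h
      exact Over.OverMorphism.ext this
    · let a := η.obj.fst
      have ha : Q (y.obj a) := L.of_hom η.obj.iso.hom η.obj.snd.property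
      have hr : Set.range a.hom.left ⊆ Set.range V.ι := by
        rintro _ ⟨w, rfl⟩
        rw [Scheme.Opens.range_ι]
        exact (L.chart_iff y a).1 ha w
      let l : a.left ⟶ Vs := Over.homMk (IsOpenImmersion.lift V.ι a.hom.left hr) (by
        show _ ≫ V.ι ≫ U.hom = _
        rw [← Category.assoc, IsOpenImmersion.lift_fac]
        exact Over.w a.hom)
      have hl : l ≫ j = a.hom := Over.OverMorphism.ext (IsOpenImmersion.lift_fac _ _ _)
      let i₁ : (AlgSt.overMap j).obj (Over.mk l) ≅ a := Over.isoMk (Iso.refl a.left)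
        ((Category.id_comp _).trans hl.symm)
      let i₂ : y'.obj (Over.mk l) ≅ η.obj.snd := ObjectProperty.isoMk _ (y.toFunctor.mapIso i₁ ≪≫ η.obj.iso)
      refine ⟨Over.mk l, fpIsoMk (x := e.obj (Over.mk l)) (y := η) i₁ i₂ ?_, ?_⟩
      · show y.map i₁.hom ≫ η.obj.iso.hom = 𝟙 _ ≫ (y.map i₁.hom ≫ η.obj.iso.hom)
        simp
      · exact fp_isHomLift (𝟙 _) _ (h := IsHomLift.of_fac _ _ _ rfl rfl (by
          show 𝟙 a.left = 𝟙 _ ≫ 𝟙 a.left ≫ 𝟙 _
          simp))
  refine ⟨⟨(yon S).obj Vs, IsAlgSpace.yon_obj Vs⟩, BasedFunctor.comp (AlgSt.toOverCat Vs) e,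
    isEquivOver_comp (isEquivOver_toOverCat Vs) he, ?_⟩
  rw [spMapOfOver_congr (show BasedFunctor.comp (BasedFunctor.comp (AlgSt.toOverCat Vs) e) (FibCat.fpFst y _) ≅
      BasedFunctor.comp (AlgSt.ofSpMap ((yon S).map j)) (AlgSt.toOverCat U) from toOverCatMapIso j),
    spMapOfOver_ofSpMap_toOverCat]
  exact (repWith_yon_map_iff _ j).2 (inferInstanceAs (IsOpenImmersion V.ι))

include L in
theorem isStack (h𝒳 : Stk.IsStack (QuotSh.J Scheme.fppfPrecoverage S) 𝒳) :
    Stk.IsStack (QuotSh.J Scheme.fppfPrecoverage S) (AlgSt.fullSub 𝒳 Q) := by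
  refine ⟨isFibGrpd_full h𝒳.1 L.of_hom, fun U R hR => ?_⟩
  let incl := AlgSt.subIncl 𝒳 Q
  haveI : (Stk.resSieve R 𝒳).IsEquivalence := h𝒳.2 R hR
  refine { faithful := ⟨fun {G H} α β h => ?_⟩, full := ⟨fun {G H} α => ?_⟩, essSurj := ⟨fun G => ?_⟩ }
  · let α' : BasedFunctor.comp G incl ⟶ BasedFunctor.comp H incl := BasedCategory.whiskerRight α incl
    let β' : BasedFunctor.comp G incl ⟶ BasedFunctor.comp H incl := BasedCategory.whiskerRight β incl
    have h' : (Stk.resSieve R 𝒳).map α' = (Stk.resSieve R 𝒳).map β' := by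
      apply BasedNatTrans.homCategory.ext
      ext a
      exact congrArg (fun γ => (γ.toNatTrans.app a).hom) h
    have h2 := (Stk.resSieve R 𝒳).map_injective h'
    apply BasedNatTrans.homCategory.ext
    ext a
    exact congrArg (fun γ => γ.toNatTrans.app a) h2
  · let α' : (Stk.resSieve R 𝒳).obj (BasedFunctor.comp G incl) ⟶
        (Stk.resSieve R 𝒳).obj (BasedFunctor.comp H incl) :=
      { toNatTrans := { app := fun a => (α.toNatTrans.app a).hom,
                        naturality := fun a b f => congrArg (·.hom) (α.toNatTrans.naturality f) },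
        isHomLift' := fun a => (isHomLift_full_iff _ _).1 (α.isHomLift' a) }
    obtain ⟨β, hβ⟩ := (Stk.resSieve R 𝒳).map_surjective α'
    refine ⟨{ toNatTrans := { app := fun a => ObjectProperty.homMk (β.toNatTrans.app a),
                              naturality := fun a b f => ObjectProperty.hom_ext _ (β.toNatTrans.naturality f) },
              isHomLift' := fun a => (isHomLift_full_iff _ _).2 (β.isHomLift' a) }, ?_⟩
    apply BasedNatTrans.homCategory.ext
    ext a
    exact congrArg (fun γ => γ.toNatTrans.app a) hβ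
  · let G' : Stk.sieveCat R ⥤ᵇ 𝒳 := BasedFunctor.comp G incl
    let H := (Stk.resSieve R 𝒳).objPreimage G'
    let i : BasedFunctor.comp (Stk.sieveIncl R) H ≅ G' := (Stk.resSieve R 𝒳).objObjPreimageIso G'
    have hH : ∀ a, Q (H.obj a) := fun a => (L.chart_iff H a).2 fun t => by
      obtain ⟨ι, V, v, -, -, hs, hv⟩ := exists_fppf_of_mem_J hR
      obtain ⟨k, z, hz⟩ := hs (a.hom.left t)
      rw [← hz]
      exact (L.chart_iff H (Over.mk (v k))).1
        (L.of_hom (isoApp i ⟨Over.mk (v k), hv k⟩).hom (G.obj ⟨Over.mk (v k), hv k⟩).property) z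
    refine ⟨liftFull H hH, ⟨BasedNatIso.mkNatIso (NatIso.ofComponents
      (fun a => ObjectProperty.isoMk _ (isoApp i a)) fun f => ObjectProperty.hom_ext _ (natural i f)) fun a => ?_⟩⟩
    exact (isHomLift_full_iff _ _).2 (isoApp_lift i rfl)

include L in
theorem diag_rep (hd : AlgSt.RepByAlgSp1 (FibCat.diag (FibCat.toSelf 𝒳))) :
    AlgSt.RepByAlgSp1 (FibCat.diag (FibCat.toSelf (AlgSt.fullSub 𝒳 Q))) := fun U y => by
  let incl := AlgSt.subIncl 𝒳 Q
  let t := FibCat.toSelf (AlgSt.fullSub 𝒳 Q)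
  let t' := FibCat.toSelf 𝒳
  let y' : FibCat.overCat U ⥤ᵇ FibCat.fp t' t' :=
    FibCat.fpLift (BasedFunctor.comp (BasedFunctor.comp y (FibCat.fpFst t t)) incl)
      (BasedFunctor.comp (BasedFunctor.comp y (FibCat.fpSnd t t)) incl)
      (whiskerLeftIso y (FibCat.fpIso t t))
  obtain ⟨F, e, he⟩ := hd U y'
  have hQ : ∀ η : (FibCat.fp y' (FibCat.diag t')).obj, Q η.obj.snd := fun η =>
    L.of_hom η.obj.iso.inv.hom.fst (y.obj η.obj.fst).obj.fst.property
  let m : FibCat.fp y' (FibCat.diag t') ⥤ᵇ FibCat.fp y (FibCat.diag t) :=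
    { toFunctor :=
        { obj := fun η => ⟨{ fst := η.obj.fst
                             snd := ⟨η.obj.snd, hQ η⟩
                             iso := (FibCat.fpProp t t).isoMk (CategoricalPullback.mkIso
                               (ObjectProperty.isoMk _ ((CategoricalPullback.π₁ _ _).mapIso ((FibCat.fpProp t' t').ι.mapIso η.obj.iso)))
                               (ObjectProperty.isoMk _ ((CategoricalPullback.π₂ _ _).mapIso ((FibCat.fpProp t' t').ι.mapIso η.obj.iso)))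
                               η.obj.iso.hom.hom.w) }, by
            haveI h' : (FibCat.fp t' t').p.IsHomLift (𝟙 ((FibCat.overCat U).p.obj η.obj.fst)) η.obj.iso.hom := η.property
            refine IsHomLift.of_fac _ _ _ (IsHomLift.domain_eq (FibCat.fp t' t').p (𝟙 ((FibCat.overCat U).p.obj η.obj.fst)) η.obj.iso.hom)
              (IsHomLift.codomain_eq (FibCat.fp t' t').p (𝟙 ((FibCat.overCat U).p.obj η.obj.fst)) η.obj.iso.hom) ?_
            exact IsHomLift.fac (FibCat.fp t' t').p (𝟙 ((FibCat.overCat U).p.obj η.obj.fst)) η.obj.iso.hom⟩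
          map := fun {η ξ} f => ObjectProperty.homMk
            { fst := f.hom.fst
              snd := ObjectProperty.homMk f.hom.snd
              w := ObjectProperty.hom_ext _ (CategoricalPullback.hom_ext
                (ObjectProperty.hom_ext _ (congrArg (fun k => k.hom.fst) f.hom.w))
                (ObjectProperty.hom_ext _ (congrArg (fun k => k.hom.snd) f.hom.w))) } }
      w := rfl }
  refine ⟨F, BasedFunctor.comp e m, isEquivOver_comp he ?_⟩
  refine isEquivOver_of_exists_iso _ ⟨fun {η ξ} f => ?_⟩ ⟨fun {η ξ} f g h => ?_⟩ fun ξ => ?_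
  · exact ⟨ObjectProperty.homMk ⟨f.hom.fst, f.hom.snd.hom,
      ObjectProperty.hom_ext _ (CategoricalPullback.hom_ext (congrArg (fun k => k.hom.fst.hom) f.hom.w)
        (congrArg (fun k => k.hom.snd.hom) f.hom.w))⟩, rfl⟩
  · exact ObjectProperty.hom_ext _ (CategoricalPullback.hom_ext (congrArg (fun k => k.hom.fst) h)
      (congrArg (fun k => k.hom.snd.hom) h))
  · refine ⟨⟨{ fst := ξ.obj.fst
               snd := ξ.obj.snd.obj
               iso := (FibCat.fpProp t' t').isoMk (CategoricalPullback.mkIso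
                 ((ObjectProperty.ι Q).mapIso ((CategoricalPullback.π₁ _ _).mapIso ((FibCat.fpProp t t).ι.mapIso ξ.obj.iso)))
                 ((ObjectProperty.ι Q).mapIso ((CategoricalPullback.π₂ _ _).mapIso ((FibCat.fpProp t t).ι.mapIso ξ.obj.iso)))
                 ξ.obj.iso.hom.hom.w) }, by
        haveI h : (FibCat.fp t t).p.IsHomLift (𝟙 ((FibCat.overCat U).p.obj ξ.obj.fst)) ξ.obj.iso.hom := ξ.property
        refine IsHomLift.of_fac _ _ _ (IsHomLift.domain_eq (FibCat.fp t t).p (𝟙 ((FibCat.overCat U).p.obj ξ.obj.fst)) ξ.obj.iso.hom)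
          (IsHomLift.codomain_eq (FibCat.fp t t).p (𝟙 ((FibCat.overCat U).p.obj ξ.obj.fst)) ξ.obj.iso.hom) ?_
        exact IsHomLift.fac (FibCat.fp t t).p (𝟙 ((FibCat.overCat U).p.obj ξ.obj.fst)) ξ.obj.iso.hom⟩,
      fpIsoMk (Iso.refl _) (Iso.refl _) ?_, ?_⟩
    · refine ObjectProperty.hom_ext _ (CategoricalPullback.hom_ext (ObjectProperty.hom_ext _ ?_) (ObjectProperty.hom_ext _ ?_))
      all_goals simp
      all_goals rfl
    · exact fp_isHomLift (𝟙 _) _ (h := IsHomLift.id rfl)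

include L in
theorem exists_atlas (h : AlgSt.HasAtlas (LocP @Smooth) 𝒳) : AlgSt.HasAtlas (LocP @Smooth) (AlgSt.fullSub 𝒳 Q) := by
  obtain ⟨U, x, hx, hx'⟩ := h
  let V := L.chartSet x
  let Vs : Over S := Over.mk (V.ι ≫ U.hom)
  let j : Vs ⟶ U := Over.homMk V.ι rfl
  let x' : FibCat.overCat Vs ⥤ᵇ AlgSt.fullSub 𝒳 Q := liftFull (BasedFunctor.comp (AlgSt.overMap j) x)
    fun c => (L.chart_iff x _).2 fun w => (c.hom.left w).2
  have key : ∀ {P : MorphismProperty (Sp S)}, AlgSt.RepByAlgSpWith P x → AlgSt.RepByAlgSpWith P x' := by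
    intro P hP T z
    let incl := AlgSt.subIncl 𝒳 Q
    let zi := BasedFunctor.comp z incl
    obtain ⟨F, e, he, hp⟩ := hP T zi
    let g : FibCat.fp z x' ⥤ᵇ FibCat.fp zi x :=
      FibCat.fpLift (FibCat.fpFst z x') (BasedFunctor.comp (FibCat.fpSnd z x') (AlgSt.overMap j))
        (whiskerRightIso (FibCat.fpIso z x') incl)
    have hg : FibCat.IsEquivOver g := by
      refine isEquivOver_of_exists_iso _ ⟨fun {η ξ} f => ?_⟩ ⟨fun {η ξ} f f' h => ?_⟩ fun ξ => ?_
      · have hw : f.hom.snd.left ≫ ξ.obj.snd.hom ≫ j = η.obj.snd.hom ≫ j := Over.w f.hom.snd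
        have hm : f.hom.snd.left ≫ ξ.obj.snd.hom = η.obj.snd.hom := by
          refine Over.OverMorphism.ext ((cancel_mono V.ι).1 ?_)
          have := congrArg CommaMorphism.left hw
          simp only [Over.comp_left] at this ⊢
          exact (Category.assoc _ _ _).trans this
        let φ : η.obj.snd ⟶ ξ.obj.snd := Over.homMk f.hom.snd.left hm
        have hφ : (AlgSt.overMap j).map φ = f.hom.snd := Over.OverMorphism.ext rfl
        refine ⟨ObjectProperty.homMk ⟨f.hom.fst, φ, ObjectProperty.hom_ext _ ?_⟩,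
          ObjectProperty.hom_ext _ (CategoricalPullback.hom_ext rfl hφ)⟩
        show (z.map f.hom.fst).hom ≫ ξ.obj.iso.hom.hom = η.obj.iso.hom.hom ≫ x.map ((AlgSt.overMap j).map φ)
        rw [hφ]
        exact f.hom.w
      · refine ObjectProperty.hom_ext _ (CategoricalPullback.hom_ext (congrArg (fun k => k.hom.fst) h) ?_)
        have := congrArg (fun k => k.hom.snd.left) h
        exact Over.OverMorphism.ext this
      · let a := ξ.obj.snd
        have ha : Q (x.obj a) := L.of_hom ξ.obj.iso.inv (z.obj ξ.obj.fst).property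
        have hr : Set.range a.hom.left ⊆ Set.range V.ι := by
          rintro _ ⟨t, rfl⟩
          rw [Scheme.Opens.range_ι]
          exact (L.chart_iff x a).1 ha t
        let l : a.left ⟶ Vs := Over.homMk (IsOpenImmersion.lift V.ι a.hom.left hr) (by
          show _ ≫ V.ι ≫ U.hom = _
          rw [← Category.assoc, IsOpenImmersion.lift_fac]
          exact Over.w a.hom)
        have hl : l ≫ j = a.hom := Over.OverMorphism.ext (IsOpenImmersion.lift_fac _ _ _)
        let i₁ : a ≅ (AlgSt.overMap j).obj (Over.mk l) := Over.isoMk (Iso.refl a.left)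
          ((Category.id_comp _).trans hl)
        refine ⟨⟨{ fst := ξ.obj.fst
                   snd := Over.mk l
                   iso := ObjectProperty.isoMk _ (ξ.obj.iso ≪≫ x.toFunctor.mapIso i₁) }, ?_⟩,
          fpIsoMk (Iso.refl _) i₁.symm ?_, ?_⟩
        · refine (isHomLift_full_iff _ _).2 ?_
          show 𝒳.p.IsHomLift (𝟙 ξ.obj.fst.left) (ξ.obj.iso.hom ≫ x.map i₁.hom)
          have h1 : 𝒳.p.IsHomLift (𝟙 ξ.obj.fst.left) ξ.obj.iso.hom := ξ.property
          have hs : (FibCat.overCat U).p.obj a = ξ.obj.fst.left :=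
            (x.w_obj a).symm.trans (IsHomLift.codomain_eq 𝒳.p (𝟙 ξ.obj.fst.left) ξ.obj.iso.hom)
          have h2 : (FibCat.overCat U).p.IsHomLift (𝟙 ξ.obj.fst.left) i₁.hom :=
            IsHomLift.of_fac _ _ _ hs hs (by
              show 𝟙 ξ.obj.fst.left = eqToHom hs.symm ≫ 𝟙 a.left ≫ eqToHom hs
              exact ((congrArg (eqToHom hs.symm ≫ ·) (Category.id_comp _)).trans (eqToHom_trans _ _)).symm)
          have h3 : 𝒳.p.IsHomLift (𝟙 ξ.obj.fst.left) (x.map i₁.hom) := haveI := h2; BasedFunctor.preserves_isHomLift x (R := ξ.obj.fst.left) (S := ξ.obj.fst.left) (𝟙 ξ.obj.fst.left) i₁.hom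
          exact IsHomLift.comp_lift_id_right' 𝒳.p (𝟙 ξ.obj.fst.left) ξ.obj.iso.hom ξ.obj.fst.left (x.map i₁.hom)
        · show zi.map (𝟙 _) ≫ ξ.obj.iso.hom = (ξ.obj.iso.hom ≫ x.map i₁.hom) ≫ x.map i₁.inv
          refine (congrArg (· ≫ ξ.obj.iso.hom) (zi.toFunctor.map_id _)).trans ((Category.id_comp _).trans ?_)
          refine Eq.trans ?_ (Category.assoc _ _ _).symm
          refine (Category.comp_id _).symm.trans (congrArg (ξ.obj.iso.hom ≫ ·) ?_)
          exact (x.toFunctor.mapIso i₁).hom_inv_id.symm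
        · exact fp_isHomLift (𝟙 _) _ (h := IsHomLift.id rfl)
    obtain ⟨g', h1, ⟨i⟩⟩ := hg
    refine ⟨F, BasedFunctor.comp e g', isEquivOver_comp he ⟨g, ⟨i⟩, h1⟩, ?_⟩
    rw [spMapOfOver_congr (show BasedFunctor.comp (BasedFunctor.comp e g') (FibCat.fpFst z x') ≅
        BasedFunctor.comp e (FibCat.fpFst zi x) from
          whiskerLeftIso e (whiskerRightIso i (FibCat.fpFst zi x)))]
    exact hp
  exact ⟨Vs, x', key hx, key hx'⟩

include L in
/-- Open loci on the bases cut out an open substack. -/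
theorem isOpenSubstack (h𝒳 : AlgSt.IsAlgStack Scheme.fppfPrecoverage 𝒳) :
    AlgSt.IsOpenSubstack 𝒳 Q Scheme.fppfPrecoverage :=
  ⟨L.isClosedUnderIso, ⟨L.isStack h𝒳.isStack, L.diag_rep h𝒳.diag, L.exists_atlas h𝒳.atlas⟩,
    L.isOpenImm h𝒳.isStack.1⟩

end OpenLoci

end Groth.Agent.CurvOpen
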