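import Groth.Prelude.Def_StCurv2
import Groth.Agent.CurvOpen.Substack
import Groth.Agent.AlgSpLib.LocP
import Groth.Agent.AlgSpLib.EtLocalInst
import Groth.Agent.AlgSpDec.BaseChangeCharts

/-!
# Loci on the base of a family of curves cut out by an open property of the points of the total space
-/

set_option autoImplicit false
set_option linter.style.haveILetI false
set_option linter.unusedSectionVars false
set_option backward.isDefEq.respectTransparency false
set_option backward.isDefEq.respectTransparency.types false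
set_option maxHeartbeats 1000000

universe u

open CategoryTheory CategoryTheory.Limits AlgebraicGeometry Opposite AlgSp

noncomputable section

namespace Groth.Agent.CurvOpen

open Groth.Agent.AlgSpLib

/-- A property of a point of the source of a flat morphism locally of finite presentation which is open,
stable under base change in both directions and etale local on source and target. -/
structure GoodProp (R : ∀ (U V : Scheme.{u}), (U ⟶ V) → ↥U → Prop) : Prop where
  isOpen : ∀ {U V : Scheme.{u}} (h : U ⟶ V), Flat h → LocallyOfFinitePresentation h → IsOpen {u | R U V h u}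
  bc : ∀ {U' V' U V : Scheme.{u}} {g' : U' ⟶ U} {h' : U' ⟶ V'} {h : U ⟶ V} {g : V' ⟶ V},
    IsPullback g' h' h g → Flat h → LocallyOfFinitePresentation h → ∀ w, (R U' V' h' w ↔ R U V h (g' w))
  src : ∀ {W U V : Scheme.{u}} (p : W ⟶ U) (h : U ⟶ V), Etale p → Flat h → LocallyOfFinitePresentation h →
    ∀ w, (R W V (p ≫ h) w ↔ R U V h (p w))
  tgt : ∀ {U V Z : Scheme.{u}} (h : U ⟶ V) (e : V ⟶ Z), Etale e → Flat h → LocallyOfFinitePresentation h →
    ∀ v, (R U Z (h ≫ e) v ↔ R U V h v)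

namespace GoodProp

variable {R : ∀ (U V : Scheme.{u}), (U ⟶ V) → ↥U → Prop} (hR : GoodProp R)

/-- Conjunction. -/
theorem inter {R' : ∀ (U V : Scheme.{u}), (U ⟶ V) → ↥U → Prop} (hR : GoodProp R) (hR' : GoodProp R') :
    GoodProp (fun U V h u => R U V h u ∧ R' U V h u) where
  isOpen h h1 h2 := (hR.isOpen h h1 h2).inter (hR'.isOpen h h1 h2)
  bc sq h1 h2 w := and_congr (hR.bc sq h1 h2 w) (hR'.bc sq h1 h2 w)
  src p h hp h1 h2 w := and_congr (hR.src p h hp h1 h2 w) (hR'.src p h hp h1 h2 w)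
  tgt h e he h1 h2 v := and_congr (hR.tgt h e he h1 h2 v) (hR'.tgt h e he h1 h2 v)

variable {S : Scheme.{u}}

include hR in
/-- Independence of the chart. -/
theorem congr_chart {F G : Sp S} {f : F ⟶ G} (hf₁ : LocP @Flat f) (hf₂ : LocP @LocallyOfFinitePresentation f)
    {U V U' V' : Over S} {a : (yon S).obj U ⟶ F} {b : (yon S).obj V ⟶ G} {h : U ⟶ V} {v : ↥U.left}
    {a' : (yon S).obj U' ⟶ F} {b' : (yon S).obj V' ⟶ G} {h' : U' ⟶ V'} {v' : ↥U'.left}
    (ha : RepWith @Etale a) (hb : RepWith @Etale b) (w : a ≫ f = (yon S).map h ≫ b)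
    (ha' : RepWith @Etale a') (hb' : RepWith @Etale b') (w' : a' ≫ f = (yon S).map h' ≫ b')
    (he : Points.ofPt a v = Points.ofPt a' v') : R _ _ h.left v ↔ R _ _ h'.left v' := by
  let pa : ha.rep.pullback a' ⟶ U := ha.rep.fst' a'
  let pa' : ha.rep.pullback a' ⟶ U' := ha.rep.snd a'
  let wb : hb.rep.pullback b' ⟶ V := hb.rep.fst' b'
  let wb' : hb.rep.pullback b' ⟶ V' := hb.rep.snd b'
  have sqA := ha.rep.isPullback' a'
  have sqB := hb.rep.isPullback' b'
  obtain ⟨z, hz, hz'⟩ := exists_ofPt_of_eq sqA he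
  haveI : Etale pa'.left := ha.property_snd a'
  haveI : Etale pa.left := ha'.property _ _ _ sqA.flip
  haveI : Etale wb'.left := hb.property_snd b'
  haveI : Etale wb.left := hb'.property _ _ _ sqB.flip
  have hc : (yon S).map (pa ≫ h) ≫ b = (yon S).map (pa' ≫ h') ≫ b' := by
    rw [(yon S).map_comp pa h, (yon S).map_comp pa' h', Category.assoc, Category.assoc, ← w, ← w',
      ← Category.assoc, sqA.w, Category.assoc]
  obtain ⟨k, hk⟩ := (yon S).map_surjective (sqB.lift _ _ hc)
  have hk₁ : k ≫ wb = pa ≫ h := (yon S).map_injective (by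
    rw [(yon S).map_comp k wb, hk]; exact sqB.lift_fst _ _ _)
  have hk₂ : k ≫ wb' = pa' ≫ h' := (yon S).map_injective (by
    rw [(yon S).map_comp k wb', hk]; exact sqB.lift_snd _ _ _)
  have e₁ : k.left ≫ wb.left = pa.left ≫ h.left := congrArg CommaMorphism.left hk₁
  have e₂ : k.left ≫ wb'.left = pa'.left ≫ h'.left := congrArg CommaMorphism.left hk₂
  haveI := hf₁ a b h ha hb w
  haveI := hf₂ a b h ha hb w
  haveI := hf₁ a' b' h' ha' hb' w'
  haveI := hf₂ a' b' h' ha' hb' w'
  have hk1 : Flat k.left := IsEtLocal.cancel_right (P := @Flat) k.left wb.left (by rw [e₁]; infer_instance)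
  have hk2 : LocallyOfFinitePresentation k.left :=
    IsEtLocal.cancel_right (P := @LocallyOfFinitePresentation) k.left wb.left (by rw [e₁]; infer_instance)
  rw [← hz, ← hz', ← hR.src pa.left h.left inferInstance inferInstance inferInstance z,
    ← hR.src pa'.left h'.left inferInstance inferInstance inferInstance z, ← e₁, ← e₂,
    hR.tgt k.left wb.left inferInstance hk1 hk2, hR.tgt k.left wb'.left inferInstance hk1 hk2]

end GoodProp

variable {S : Scheme.{u}} (R : ∀ (U V : Scheme.{u}), (U ⟶ V) → ↥U → Prop)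

/-- The points where `R` fails in some chart. -/
def bad {F G : Sp S} (f : F ⟶ G) : Set (Points F) :=
  {x | HasAtMor (fun U V h v => ¬ R U V h v) f x}

/-- All points of all charts satisfy `R`. -/
abbrev AllR {F G : Sp S} (f : F ⟶ G) : Prop := LocP (fun U V h => ∀ v, R U V h v) f

variable {R}

theorem allR_iff_bad_eq_empty {F G : Sp S} (f : F ⟶ G) : AllR R f ↔ bad R f = ∅ := by
  refine ⟨fun h => Set.eq_empty_of_forall_notMem ?_, fun h U V a b k ha hb w v => ?_⟩
  · rintro x ⟨U, V, a, b, k, v, ha, hb, w, -, hv⟩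
    exact hv (h a b k ha hb w v)
  · by_contra hv
    exact (Set.eq_empty_iff_forall_notMem.1 h (Points.ofPt a v)) ⟨U, V, a, b, k, v, ha, hb, w, rfl, hv⟩

theorem mem_bad_iff (hR : GoodProp R) {F G : Sp S} {f : F ⟶ G} (hf₁ : LocP @Flat f)
    (hf₂ : LocP @LocallyOfFinitePresentation f) {U V : Over S} {a : (yon S).obj U ⟶ F} {b : (yon S).obj V ⟶ G}
    {h : U ⟶ V} (ha : RepWith @Etale a) (hb : RepWith @Etale b) (w : a ≫ f = (yon S).map h ≫ b) (v : ↥U.left) :
    Points.ofPt a v ∈ bad R f ↔ ¬ R _ _ h.left v := by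
  refine ⟨?_, fun hv => ⟨U, V, a, b, h, v, ha, hb, w, rfl, hv⟩⟩
  rintro ⟨U', V', a', b', h', v', ha', hb', w', he, hv⟩
  exact fun hv' => hv ((hR.congr_chart hf₁ hf₂ ha' hb' w' ha hb w he).2 hv')

theorem isClosed_bad (hR : GoodProp R) {F G : Sp S} (hF : IsAlgSpace F) (hG : IsAlgSpace G) {f : F ⟶ G}
    (hf₁ : LocP @Flat f) (hf₂ : LocP @LocallyOfFinitePresentation f) : IsClosed (bad R f) := by
  obtain ⟨U, V, a, b, h, ha, hs, hb, -, w⟩ := exists_chart hF hG f
  rw [← isOpen_compl_iff, isOpen_iff_chart ha hs]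
  have : Points.ofPt a ⁻¹' (bad R f)ᶜ = {v | R _ _ h.left v} := by
    ext v
    simp only [Set.mem_preimage, Set.mem_compl_iff, Set.mem_ofPred_eq, mem_bad_iff hR hf₁ hf₂ ha hb w, not_not]
  rw [this]
  exact hR.isOpen _ (hf₁ a b h ha hb w) (hf₂ a b h ha hb w)

theorem mem_bad_iff_of_isPullback (hR : GoodProp R) {F G F' G' : Sp S} {f : F ⟶ G} {g : G' ⟶ G} {g' : F' ⟶ F}
    {f' : F' ⟶ G'} (sq : IsPullback g' f' f g) (hF : IsAlgSpace F) (hG : IsAlgSpace G) (hG' : IsAlgSpace G')
    (hf₁ : LocP @Flat f) (hf₂ : LocP @LocallyOfFinitePresentation f) (hf'₁ : LocP @Flat f')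
    (hf'₂ : LocP @LocallyOfFinitePresentation f') (x : Points F') :
    x ∈ bad R f' ↔ Points.map g' x ∈ bad R f := by
  obtain ⟨U, V, W, a, b, c, h, h₁, a', ha, hb, hc, w, ha', hs', w', w''⟩ :=
    AlgSpDec.exists_baseChange_charts sq hF hG hG'
  obtain ⟨z, rfl⟩ := surjective_ofPt hs' x
  have hz : Points.map g' (Points.ofPt a' z) = Points.ofPt a ((pullback.fst h h₁).left z) := by
    rw [Points.map_ofPt, w'', ofPt_comp]
  rw [hz, mem_bad_iff hR hf'₁ hf'₂ ha' hc w', mem_bad_iff hR hf₁ hf₂ ha hb w]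
  exact not_congr (hR.bc ((IsPullback.of_hasPullback h h₁).map (Over.forget S)) (hf₁ a b h ha hb w) (hf₂ a b h ha hb w) z)

/-- The open of the base over which all points satisfy `R`. -/
def locus (R : ∀ (U V : Scheme.{u}), (U ⟶ V) → ↥U → Prop) {n : ℕ} (A : (CurvSt.Curves S n).obj) :
    Set ↥A.obj.base.left :=
  {t | Points.ofScheme A.obj.base t ∉ Points.map A.obj.f '' bad R A.obj.f}

/-- A good property cuts out open loci on the bases of families of curves. -/
def openLoci {n : ℕ} (hR : GoodProp R) :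
    OpenLoci (CurvSt.Curves S n) (fun A => AllR R A.obj.f) where
  W := locus R
  isOpen A := by
    obtain ⟨hX, hfl, hpr, hfp, -⟩ := A.property
    have h := (hpr.2.2 (IsAlgSpace.yon_obj _) (𝟙 _) (𝟙 _) A.obj.f (IsPullback.of_horiz_isIso ⟨by simp⟩))
      _ (isClosed_bad hR hX (IsAlgSpace.yon_obj _) hfl hfp.1)
    exact (h.preimage (Points.continuous_ofPt (𝟙 ((yon S).obj A.obj.base)))).isOpen_compl
  pull A' A φ t := by
    obtain ⟨hX, hfl, -, hfp, -⟩ := A.property
    obtain ⟨-, hfl', -, hfp', -⟩ := A'.property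
    have key := mem_bad_iff_of_isPullback hR φ.hom.cart hX (IsAlgSpace.yon_obj _) (IsAlgSpace.yon_obj _)
      hfl hfp.1 hfl' hfp'.1
    have ht : Points.map ((yon S).map φ.hom.base) (Points.ofScheme A'.obj.base t) =
        Points.ofScheme A.obj.base (φ.hom.base.left t) := by
      rw [Points.map_ofPt, Category.id_comp, ← Category.comp_id ((yon S).map φ.hom.base), ofPt_comp]
    refine not_congr ⟨?_, ?_⟩
    · rintro ⟨x', hx', he⟩
      refine ⟨Points.map φ.hom.top x', (key x').1 hx', ?_⟩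
      rw [← Points.map_comp, φ.hom.cart.w, Points.map_comp, he, ht]
      rfl
    · rintro ⟨x, hx, he⟩
      obtain ⟨z, hz₁, hz₂⟩ := exists_point_of_isPullback φ.hom.cart (x := x)
        (y := Points.ofScheme A'.obj.base t) (he.trans ht.symm)
      exact ⟨z, (key z).2 (hz₁.symm ▸ hx), hz₂⟩
  iff A := by
    show AllR R A.obj.f ↔ _
    rw [allR_iff_bad_eq_empty]
    refine ⟨fun h t ht => ?_, fun h => Set.eq_empty_of_forall_notMem fun x hx => ?_⟩
    · obtain ⟨x, hx, -⟩ := ht
      rw [h] at hx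
      exact hx
    · exact h (Points.toScheme _ (Points.map A.obj.f x)) ⟨x, hx, (Points.ofScheme_toScheme _ _).symm⟩

namespace OpenLoci

universe v w

variable {𝒳 : BasedCategory.{v, w} (Over S)} {Q Q' : 𝒳.obj → Prop}

/-- Replace the property by an equivalent one. -/
def congr (L : OpenLoci 𝒳 Q) (h : ∀ x, Q' x ↔ Q x) : OpenLoci 𝒳 Q' where
  W := L.W
  isOpen := L.isOpen
  pull := L.pull
  iff x := (h x).trans (L.iff x)

/-- Intersection. -/
def inter (L : OpenLoci 𝒳 Q) (L' : OpenLoci 𝒳 Q') : OpenLoci 𝒳 (fun x => Q x ∧ Q' x) where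
  W x := L.W x ∩ L'.W x
  isOpen x := (L.isOpen x).inter (L'.isOpen x)
  pull _ _ φ t := and_congr (L.pull φ t) (L'.pull φ t)
  iff x := (and_congr (L.iff x) (L'.iff x)).trans (forall_and).symm

end OpenLoci

end Groth.Agent.CurvOpen
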