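import Groth.Agent.CurvOpen.Example
import Groth.Agent.AlgSpDec.RelDimSp
import Groth.Agent.S0341
import Groth.Agent.S0342
import Groth.Agent.SmoothReg.Scheme

/-!
# Open substacks of the stack of curves given by etale local conditions
-/

set_option autoImplicit false
set_option linter.style.haveILetI false
set_option backward.isDefEq.respectTransparency false
set_option backward.isDefEq.respectTransparency.types false
set_option maxHeartbeats 1000000

universe u

open CategoryTheory CategoryTheory.Limits AlgebraicGeometry AlgSp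

noncomputable section

namespace Groth.Agent.CurvOpen

open Groth.Agent.AlgSpLib

variable {S : Scheme.{u}} {n : ℕ}

/-- An etale local condition given by a good property cuts out an open substack. -/
theorem isOpenSubstack_locP {R : ∀ (U V : Scheme.{u}), (U ⟶ V) → ↥U → Prop} (hR : GoodProp R)
    {P : MorphismProperty Scheme.{u}} (hP : ∀ {U V : Scheme.{u}} (h : U ⟶ V), (∀ x, R U V h x) ↔ P h)
    (hC : AlgSt.IsAlgStack Scheme.fppfPrecoverage (CurvSt.Curves S n)) :
    AlgSt.IsOpenSubstack (CurvSt.Curves S n) (fun A => LocP P A.obj.f) Scheme.fppfPrecoverage := by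
  have e : (fun (U V : Scheme.{u}) (h : U ⟶ V) => ∀ x, R U V h x) = P := by
    funext U V h
    exact propext (hP h)
  have := (openLoci (S := S) (n := n) hR).isOpenSubstack hC
  unfold AllR at this
  rwa [e] at this

/-- An etale local condition together with relative dimension one. -/
theorem allR_and_dimOne_iff {R : ∀ (U V : Scheme.{u}), (U ⟶ V) → ↥U → Prop} {F G : Sp S} (hF : IsAlgSpace F)
    (hG : IsAlgSpace G) {f : F ⟶ G} (hf : LocP @LocallyOfFiniteType f) :
    AllR (fun U V h v => R U V h v ∧ FlatMor.fibreDimAt h v = ((1 : ℕ) : WithBot ℕ∞)) f ↔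
      (AllR R f ∧ ∀ x : Points F, HasAtMor (fun _ _ h v => FlatMor.fibreDimAt h v = ((1 : ℕ) : WithBot ℕ∞)) f x) := by
  constructor
  · intro h
    refine ⟨fun U V a b k ha hb w v => (h a b k ha hb w v).1, fun x => ?_⟩
    obtain ⟨U, V, a, b, k, ha, hs, hb, -, w⟩ := exists_chart hF hG f
    obtain ⟨v, rfl⟩ := surjective_ofPt hs x
    exact ⟨U, V, a, b, k, v, ha, hb, w, rfl, (h a b k ha hb w v).2⟩
  · rintro ⟨h, hd⟩ U V a b k ha hb w v
    obtain ⟨U', V', a', b', k', v', ha', hb', w', he, hv⟩ := hd (Points.ofPt a v)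
    exact ⟨h a b k ha hb w v,
      (AlgSpDec.RelDimSp.fibreDimAt_congr hf ha' hb' w' ha hb w he).symm.trans hv⟩

theorem locP_lft (A : (CurvSt.Curves S n).obj) : LocP @LocallyOfFiniteType A.obj.f := A.property.2.2.1.2.1.1

/-- An etale local condition together with relative dimension one cuts out an open substack. -/
theorem isOpenSubstack_locP_dimOne {R : ∀ (U V : Scheme.{u}), (U ⟶ V) → ↥U → Prop}
    (hR : GoodProp (fun U V h v => R U V h v ∧ FlatMor.fibreDimAt h v = ((1 : ℕ) : WithBot ℕ∞)))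
    (hC : AlgSt.IsAlgStack Scheme.fppfPrecoverage (CurvSt.Curves S n)) :
    AlgSt.IsOpenSubstack (CurvSt.Curves S n) (fun A => AllR R A.obj.f ∧
      (∀ x : Points A.obj.X, HasAtMor (fun _ _ h v => FlatMor.fibreDimAt h v = ((1 : ℕ) : WithBot ℕ∞)) A.obj.f x))
      Scheme.fppfPrecoverage :=
  ((openLoci (S := S) (n := n) hR).congr fun A =>
    (allR_and_dimOne_iff A.property.1 (IsAlgSpace.yon_obj _) (locP_lft A)).symm).isOpenSubstack hC

theorem good_GorOne : GoodProp (fun (U V : Scheme.{u}) (h : U ⟶ V) x =>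
    Dual3.IsGorensteinAt h x ∧ FlatMor.fibreDimAt h x = ((1 : ℕ) : WithBot ℕ∞)) := by
  have hcm : ∀ {U V : Scheme.{u}} (h : U ⟶ V) x, Dual3.IsGorensteinAt h x → MoreMor.IsCMAt h x :=
    fun h x hx => ⟨hx.1, haveI := hx.2; S0341.result _⟩
  have e : (fun (U V : Scheme.{u}) (h : U ⟶ V) x =>
      Dual3.IsGorensteinAt h x ∧ FlatMor.fibreDimAt h x = ((1 : ℕ) : WithBot ℕ∞)) =
      fun U V h x => Dual3.IsGorensteinAt h x ∧
        (MoreMor.IsCMAt h x ∧ FlatMor.fibreDimAt h x = ((1 : ℕ) : WithBot ℕ∞)) := by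
    funext U V h x
    exact propext ⟨fun ⟨a, b⟩ => ⟨a, hcm h x a, b⟩, fun ⟨a, _, b⟩ => ⟨a, b⟩⟩
  rw [e]
  exact GoodProp.inter good_Gor good_CMOne

/-- Smooth of relative dimension one implies Gorenstein at every point. -/
theorem gor_of_smoothOne {U V : Scheme.{u}} (h : U ⟶ V) [SmoothOfRelativeDimension 1 h] (x : U) :
    Dual3.IsGorensteinAt h x := by
  haveI : Smooth h := SmoothOfRelativeDimension.smooth 1 h
  haveI : Smooth (h.fiberToSpecResidueField (h x)) :=
    MorphismProperty.pullback_snd (P := @Smooth) _ _ ‹Smooth h›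
  haveI := SmoothReg.isRegularLocalRing_stalk_of_mem_smoothLocus (h.fiberToSpecResidueField (h x))
    (x := h.asFiber x) (by rw [Scheme.Hom.smoothLocus_eq_top]; trivial)
  exact ⟨Flat.stalkMap h x, S0342.result _⟩

end Groth.Agent.CurvOpen
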