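import Groth.Agent.CurvOpen.Locus
import Groth.Agent.CurvOpen.FieldExt
import Groth.Agent.GorFib.Mor
import Groth.Agent.GorFib.Open
import Groth.Agent.CMOpen5.Open
import Groth.Agent.AlgSpDec2.GeomRedLocus
import Groth.Agent.GeomRedFlat5.Open
import Groth.Agent.NodalQ.Univ
import Groth.Agent.S2155
import Groth.Agent.S1592
import Groth.Agent.S1593
import Groth.Agent.S1595
import Groth.Agent.S7912
import Groth.Agent.S9766
import Groth.Agent.S9767
import Groth.Agent.CMRelDim.Basic
import Groth.Agent.AlgSpDec.FibreDimEtale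
import Groth.Agent.Synt29.SmoothDim
import Groth.Agent.RegKinds.Near
import Groth.Agent.KRegLib.FlatBase

/-!
# Good point properties of flat morphisms locally of finite presentation
-/

set_option autoImplicit false
set_option linter.style.haveILetI false
set_option linter.unusedSectionVars false
set_option backward.isDefEq.respectTransparency false
set_option backward.isDefEq.respectTransparency.types false
set_option maxHeartbeats 1000000

universe u

open CategoryTheory CategoryTheory.Limits AlgebraicGeometry AlgSp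

noncomputable section

namespace Groth.Agent.CurvOpen

open Groth.Agent.AlgSpLib

/-- `P` holds on a neighbourhood of the point. -/
def near (P : MorphismProperty Scheme.{u}) (U V : Scheme.{u}) (h : U ⟶ V) (x : ↥U) : Prop :=
  ∃ W : U.Opens, x ∈ W ∧ P (W.ι ≫ h)

theorem forall_near {P : MorphismProperty Scheme.{u}} [IsZariskiLocalAtSource P]
    {U V : Scheme.{u}} (h : U ⟶ V) : (∀ x, near P U V h x) ↔ P h := by
  refine ⟨fun H => ?_, fun hP x => ⟨⊤, trivial, IsZariskiLocalAtSource.comp (P := P) hP _⟩⟩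
  choose W hW hP using H
  exact IsZariskiLocalAtSource.of_iSup_eq_top (P := P) W
    (TopologicalSpace.Opens.ext (Set.eq_univ_of_forall fun x => by simpa using ⟨x, hW x⟩)) hP

theorem goodProp_near_of {P : MorphismProperty Scheme.{u}}
    (hpre : ∀ {X Y Z : Scheme.{u}} (f : X ⟶ Y) (g : Y ⟶ Z), Etale f → P g → P (f ≫ g))
    (hpost : ∀ {X Y Z : Scheme.{u}} (f : X ⟶ Y) (g : Y ⟶ Z), P f → Etale g → P (f ≫ g))
    (hof : ∀ {X Y Z : Scheme.{u}} (f : X ⟶ Y) (g : Y ⟶ Z), Etale f → Surjective f → P (f ≫ g) → P g)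
    (hcancel : ∀ {X Y Z : Scheme.{u}} (f : X ⟶ Y) (g : Y ⟶ Z), Etale g → P (f ≫ g) → P f)
    (hbc : ∀ {U' V' U V : Scheme.{u}} {g' : U' ⟶ U} {h' : U' ⟶ V'} {h : U ⟶ V} {g : V' ⟶ V},
      IsPullback g' h' h g → Flat h → LocallyOfFinitePresentation h → ∀ w, (near P U' V' h' w ↔ near P U V h (g' w))) :
    GoodProp (near P) where
  isOpen {U V} h _ _ := isOpen_iff_forall_mem_open.2 fun x ⟨W, hx, hW⟩ => ⟨W, fun y hy => ⟨W, hy, hW⟩, W.2, hx⟩
  bc := hbc
  src {W U V} p h hp _ _ w := by
    haveI : Etale p := hp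
    constructor
    · rintro ⟨O, hw, hO⟩
      let O' : U.Opens := ⟨p '' (O : Set W), p.isOpenMap _ O.2⟩
      have hr : Set.range (O.ι ≫ p) ⊆ Set.range O'.ι := by
        rintro _ ⟨z, rfl⟩
        rw [Scheme.Opens.range_ι]
        exact ⟨z.1, z.2, rfl⟩
      let q := IsOpenImmersion.lift O'.ι (O.ι ≫ p) hr
      have hq : q ≫ O'.ι = O.ι ≫ p := IsOpenImmersion.lift_fac _ _ _
      haveI : Etale q := IsEtLocal.cancel_right (P := @Etale) q O'.ι (by rw [hq]; infer_instance)
      haveI : Surjective q := ⟨fun ⟨y, z, hz, hzy⟩ => ⟨⟨z, hz⟩, O'.ι.isOpenEmbedding.injective (by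
        show O'.ι (q _) = _
        rw [← Scheme.Hom.comp_apply, hq]
        exact hzy)⟩⟩
      refine ⟨O', ⟨w, hw, rfl⟩, hof q _ inferInstance inferInstance ?_⟩
      rw [← Category.assoc, hq, Category.assoc]
      exact hO
    · rintro ⟨O, hw, hO⟩
      refine ⟨p ⁻¹ᵁ O, hw, ?_⟩
      have := hpre (p ∣_ O) _ inferInstance hO
      rw [← Category.assoc, morphismRestrict_ι, Category.assoc] at this
      exact this
  tgt {U V Z} h e he _ _ v := by
    refine ⟨fun ⟨O, hv, hO⟩ => ⟨O, hv, hcancel _ e he (by rw [Category.assoc]; exact hO)⟩,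
      fun ⟨O, hv, hO⟩ => ⟨O, hv, ?_⟩⟩
    rw [← Category.assoc]
    exact hpost _ e hO he

theorem goodProp_near {P : MorphismProperty Scheme.{u}} [IsEtLocal P]
    (hbc : ∀ {U' V' U V : Scheme.{u}} {g' : U' ⟶ U} {h' : U' ⟶ V'} {h : U ⟶ V} {g : V' ⟶ V},
      IsPullback g' h' h g → Flat h → LocallyOfFinitePresentation h → ∀ w, (near P U' V' h' w ↔ near P U V h (g' w))) :
    GoodProp (near P) :=
  goodProp_near_of IsEtLocal.precomp IsEtLocal.postcomp IsEtLocal.of_precomp
    (fun f g hg h => haveI := hg; IsEtLocal.cancel_right f g h) hbc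

theorem near_smooth_iff {U V : Scheme.{u}} (h : U ⟶ V) [LocallyOfFinitePresentation h] (x : U) :
    near @Smooth U V h x ↔ x ∈ h.smoothLocus :=
  NodalQ.exists_smooth_iff h x

/-- Smoothness at a point. -/
theorem good_smooth : GoodProp (near @Smooth) :=
  goodProp_near fun {U' V' U V g' h' h g} sq h1 h2 w => by
    haveI : Flat h := h1
    haveI : LocallyOfFinitePresentation h := h2
    haveI : LocallyOfFinitePresentation h' := MorphismProperty.of_isPullback (P := @LocallyOfFinitePresentation) sq h2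
    rw [near_smooth_iff, near_smooth_iff, S2155.result h g h' g' sq (Or.inl h1)]
    rfl

/-- Dimension one and at worst nodal at a point. -/
abbrev nodR (U V : Scheme.{u}) (h : U ⟶ V) (x : ↥U) : Prop := near CurvSt.nodalFam U V h x

instance : MorphismProperty.RespectsIso (CurvSt.nodalFam.{u}) :=
  MorphismProperty.RespectsIso.mk _ (fun e f hf => S1592.result f hf e.hom) fun e f hf => S1595.result e.hom f hf

instance : MorphismProperty.IsStableUnderBaseChange (CurvSt.nodalFam.{u}) :=
  MorphismProperty.IsStableUnderBaseChange.mk' fun X Y S f g _ hg => S7912.result g hg f |>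
    fun h => by
      have := S1592.result _ h (pullbackSymmetry f g).hom
      rwa [pullbackSymmetry_hom_comp_snd] at this

instance : IsEtLocal (CurvSt.nodalFam.{u}) where
  precomp f g hf hg := S1592.result g hg f
  postcomp f g hf hg := S1595.result g f hf
  of_precomp {X Y Z} f g hf hs h := S1593.result g PUnit (fun _ => X) (fun _ => f)
    (fun y => ⟨PUnit.unit, hs.surj y⟩) fun _ => h

theorem near_nodal_iff {U V : Scheme.{u}} (h : U ⟶ V) [Flat h] [LocallyOfFinitePresentation h] (x : U) :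
    nodR U V h x ↔ x ∈ NodalQ.nodalPts h := by
  refine ⟨fun ⟨W, hx, hW⟩ => (NodalQ.isNodalFamily_iff h W).1 hW hx, fun hx => ?_⟩
  exact ⟨⟨_, NodalQ.isOpen_nodalPts h⟩, hx, (NodalQ.isNodalFamily_iff h _).2 fun _ => id⟩

/-- Nodality at a point. -/
theorem good_nodal : GoodProp (nodR.{u}) :=
  goodProp_near fun {U' V' U V g' h' h g} sq h1 h2 w => by
    haveI : Flat h := h1
    haveI : LocallyOfFinitePresentation h := h2
    haveI : LocallyOfFinitePresentation h' := MorphismProperty.of_isPullback (P := @LocallyOfFinitePresentation) sq h2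
    haveI : Flat h' := MorphismProperty.of_isPullback (P := @Flat) sq h1
    exact (near_nodal_iff h' w).trans ((NodalQ.mem_nodalPts_baseChange h sq w).trans (near_nodal_iff h (g' w)).symm)

theorem isLocallyNoetherian_fibre {U V : Scheme.{u}} (h : U ⟶ V) [LocallyOfFiniteType h] (s : V) :
    IsLocallyNoetherian (h.fiber s) :=
  LocallyOfFiniteType.isLocallyNoetherian (h.fiberToSpecResidueField s)

/-- Cohen-Macaulayness at a point. -/
theorem good_CM : GoodProp (fun (U V : Scheme.{u}) (h : U ⟶ V) x => MoreMor.IsCMAt h x) where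
  isOpen h _ h2 := haveI := h2; CMOpen5.isOpen_isCMAt h
  bc {U' V' U V g' h' h g} sq h1 h2 w := by
    haveI := h1; haveI := h2
    haveI : LocallyOfFinitePresentation h' := MorphismProperty.of_isPullback (P := @LocallyOfFinitePresentation) sq h2
    haveI : Flat h' := MorphismProperty.of_isPullback (P := @Flat) sq h1
    exact isCMAt_baseChange_iff sq w
  src {W U V} p h hp h1 h2 w := by
    haveI := h1; haveI := h2; haveI := hp
    refine ⟨fun H => (S9767.result p h w (isLocallyNoetherian_fibre p _) (isLocallyNoetherian_fibre h _) H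
      (Flat.stalkMap p w)).2, fun H => S9766.result p h w (isLocallyNoetherian_fibre (p ≫ h) _)
      (CMOpen5.isCMAt_of_quasiFiniteAt p w (Flat.stalkMap p w) (p.quasiFiniteAt w)) H⟩
  tgt {U V Z} h e he h1 h2 v := by
    haveI := h1; haveI := h2; haveI := he
    refine ⟨fun H => (S9767.result h e v (isLocallyNoetherian_fibre h _) (isLocallyNoetherian_fibre e _) H
      (Flat.stalkMap h v)).1, fun H => S9766.result h e v (isLocallyNoetherian_fibre (h ≫ e) _) H
      (CMOpen5.isCMAt_of_quasiFiniteAt e _ (Flat.stalkMap e _) (e.quasiFiniteAt _))⟩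

/-- Gorensteinness at a point. -/
theorem good_Gor : GoodProp (fun (U V : Scheme.{u}) (h : U ⟶ V) x => Dual3.IsGorensteinAt h x) where
  isOpen h h1 h2 := haveI := h1; haveI := h2; GorFib.isOpen_gorenstein h
  bc {U' V' U V g' h' h g} sq h1 h2 w := by
    haveI := h1; haveI := h2
    haveI : LocallyOfFinitePresentation h' := MorphismProperty.of_isPullback (P := @LocallyOfFinitePresentation) sq h2
    haveI : Flat h' := MorphismProperty.of_isPullback (P := @Flat) sq h1
    exact gorAt_baseChange_iff sq w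
  src {W U V} p h hp h1 h2 w := by
    haveI := h1; haveI := h2; haveI := hp
    exact GorFib.gor_left_iff p h w (isLocallyNoetherian_fibre h _)
  tgt {U V Z} h e he h1 h2 v := by
    haveI := h1; haveI := h2; haveI := he
    exact GorFib.gor_right_iff h e v (isLocallyNoetherian_fibre (h ≫ e) _)

/-- Geometric reducedness of the fibre at a point. -/
theorem good_E : GoodProp (fun (U V : Scheme.{u}) (h : U ⟶ V) x => GeomRedFlat5.E h x) where
  isOpen h h1 h2 := by
    haveI := h1; haveI := h2
    convert GeomRedFlat5.isOpen_FE h using 1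
    ext x
    exact ⟨fun H => ⟨Flat.stalkMap h x, H⟩, And.right⟩
  bc sq _ _ w := GeomRedFlat5.E_iff_of_isPullback sq w
  src p h hp _ _ w := haveI := hp; AlgSpDec2.GeomRedLocus.E_etale_comp p h w
  tgt h e he _ _ v := haveI := he; AlgSpDec2.GeomRedLocus.E_comp_etale h e v

/-- Cohen-Macaulay of fibre dimension one at a point. -/
theorem good_CMOne : GoodProp (fun (U V : Scheme.{u}) (h : U ⟶ V) x =>
    MoreMor.IsCMAt h x ∧ FlatMor.fibreDimAt h x = ((1 : ℕ) : WithBot ℕ∞)) where
  isOpen h h1 h2 := by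
    haveI := h1; haveI := h2
    refine isOpen_iff_forall_mem_open.2 fun x hx => ?_
    obtain ⟨W, hxW, hW⟩ := CMRelDim.exists_nhd_fibreDimAt_eq h x hx.1.2
    exact ⟨{y | MoreMor.IsCMAt h y} ∩ W, fun y hy => ⟨hy.1, (hW y hy.2).trans hx.2⟩,
      (CMOpen5.isOpen_isCMAt h).inter W.2, hx.1, hxW⟩
  bc {U' V' U V g' h' h g} sq h1 h2 w := by
    haveI := h1; haveI := h2
    haveI : LocallyOfFinitePresentation h' := MorphismProperty.of_isPullback (P := @LocallyOfFinitePresentation) sq h2
    exact and_congr (good_CM.bc sq h1 h2 w) (by rw [FibDim.fibreDimAt_baseChange sq w])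
  src {W U V} p h hp h1 h2 w := by
    haveI := h2; haveI := hp
    exact and_congr (good_CM.src p h hp h1 h2 w) (by rw [AlgSpDec.fibreDimAt_etale_comp])
  tgt {U V Z} h e he h1 h2 v := by
    haveI := h2; haveI := he
    exact and_congr (good_CM.tgt h e he h1 h2 v) (by rw [AlgSpDec.fibreDimAt_comp_etale])


/-- Smooth of relative dimension one at a point. -/
theorem good_smoothOne : GoodProp (fun (U V : Scheme.{u}) (h : U ⟶ V) x =>
    near @Smooth U V h x ∧ FlatMor.fibreDimAt h x = ((1 : ℕ) : WithBot ℕ∞)) where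
  isOpen {U V} h h1 h2 := by
    haveI := h2
    refine isOpen_iff_forall_mem_open.2 fun x ⟨⟨W, hxW, hW⟩, hd⟩ => ?_
    haveI := hW
    obtain ⟨-, -, O, -, -, n, hxO, -, hO, hn⟩ := Synt29.SmoothDim.exists_chart (W.ι ≫ h) ⟨x, hxW⟩
    rw [FibDim.fibreDimAt_openImmersion_comp, show W.ι ⟨x, hxW⟩ = x from rfl, hd] at hn
    have hn1 : n = 1 := by exact_mod_cast hn.symm
    refine ⟨W.ι '' (O : Set (W : Scheme.{u})), ?_, W.ι.isOpenEmbedding.isOpenMap _ O.2, ⟨⟨x, hxW⟩, hxO, rfl⟩⟩
    rintro _ ⟨y, hy, rfl⟩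
    refine ⟨⟨W, y.2, hW⟩, ?_⟩
    haveI := hO
    rw [← FibDim.fibreDimAt_openImmersion_comp, Synt29.SmoothDim.fibreDimAt_eq_of_nhd (W.ι ≫ h) O n hy, hn1]
  bc {U' V' U V g' h' h g} sq h1 h2 w := by
    haveI := h2
    haveI : LocallyOfFinitePresentation h' := MorphismProperty.of_isPullback (P := @LocallyOfFinitePresentation) sq h2
    exact and_congr (good_smooth.bc sq h1 h2 w) (by rw [FibDim.fibreDimAt_baseChange sq w])
  src {W U V} p h hp h1 h2 w := by
    haveI := h2; haveI := hp
    exact and_congr (good_smooth.src p h hp h1 h2 w) (by rw [AlgSpDec.fibreDimAt_etale_comp])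
  tgt {U V Z} h e he h1 h2 v := by
    haveI := h2; haveI := he
    exact and_congr (good_smooth.tgt h e he h1 h2 v) (by rw [AlgSpDec.fibreDimAt_comp_etale])

theorem forall_smoothOne_iff {U V : Scheme.{u}} (h : U ⟶ V) :
    (∀ x, near @Smooth U V h x ∧ FlatMor.fibreDimAt h x = ((1 : ℕ) : WithBot ℕ∞)) ↔
      SmoothOfRelativeDimension 1 h := by
  constructor
  · intro H
    haveI : Smooth h := (forall_near (P := @Smooth) h).1 fun x => (H x).1
    refine (forall_near (P := @SmoothOfRelativeDimension 1) h).1 fun x => ?_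
    obtain ⟨-, -, O, -, -, n, hxO, -, hO, hn⟩ := Synt29.SmoothDim.exists_chart h x
    rw [(H x).2] at hn
    obtain rfl : n = 1 := by exact_mod_cast hn.symm
    exact ⟨O, hxO, hO⟩
  · intro H x
    haveI := H
    haveI : Smooth h := SmoothOfRelativeDimension.smooth 1 h
    exact ⟨(forall_near (P := @Smooth) h).2 inferInstance x, S2768.result 1 h x⟩

theorem near_lci_iff {U V : Scheme.{u}} (h : U ⟶ V) (x : U) :
    near KRegLib.IsLCI' U V h x ↔ Synt.IsKoszulAt h x :=
  ⟨fun ⟨W, hx, hW⟩ => RegKinds.isKoszulAt_of_open W ⟨x, hx⟩ ((KRegLib.forall_isKoszulAt_iff _).2 hW _),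
    RegKinds.exists_lci_nhd⟩

/-- Koszul at a point. -/
theorem good_Koszul : GoodProp (fun (U V : Scheme.{u}) (h : U ⟶ V) x => Synt.IsKoszulAt h x) := by
  have key : GoodProp (near KRegLib.IsLCI'.{u}) :=
    goodProp_near_of (fun f g hf hg => RegKinds.isEtLocalF_isLCI'.preEt f g hf hg)
      (fun f g hf hg => RegKinds.isEtLocalF_isLCI'.postEt f g hf hg)
      (fun f g hf hs h => RegKinds.isEtLocalF_isLCI'.of_precomp f g hf hs h)
      (fun f g hg h => haveI := hg; (KRegLib.forall_isKoszulAt_iff _).1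
        (KRegLib.isKoszulAt_of_comp_smooth f g ((KRegLib.forall_isKoszulAt_iff _).2 h)))
      fun {U' V' U V g' h' h g} sq h1 h2 w => by
        haveI := h1; haveI := h2
        haveI : Flat (h ≫ 𝟙 V) := by rw [Category.comp_id]; exact h1
        haveI : LocallyOfFinitePresentation (h ≫ 𝟙 V) := by rw [Category.comp_id]; exact h2
        rw [near_lci_iff, near_lci_iff]
        exact KRegLib.isKoszulAt_baseChange_iff h (𝟙 V)
          (show IsPullback g (𝟙 V') (𝟙 V) g from IsPullback.of_vert_isIso ⟨by simp⟩) sq w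
  have e : (fun (U V : Scheme.{u}) (h : U ⟶ V) x => Synt.IsKoszulAt h x) = near KRegLib.IsLCI'.{u} := by
    funext U V h x
    exact propext (near_lci_iff h x).symm
  rw [e]
  exact key

theorem nodalFam_of_forall_near {U V : Scheme.{u}} (h : U ⟶ V) (H : ∀ x, nodR U V h x) : Curv2.IsNodalFamily h := by
  choose W hW hP using H
  exact S1593.result h ↥U (fun x => (W x : Scheme.{u})) (fun x => (W x).ι) (fun x => ⟨x, ⟨x, hW x⟩, rfl⟩) hP

theorem forall_nodR_iff {U V : Scheme.{u}} (h : U ⟶ V) : (∀ x, nodR U V h x) ↔ CurvSt.nodalFam h :=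
  ⟨nodalFam_of_forall_near h, fun hP x => ⟨⊤, trivial, S1592.result h hP _⟩⟩

end Groth.Agent.CurvOpen
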